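import Groth.Agent.FSCLib.MinAss
import Groth.Agent.CatLib.Eft

/-! Formally strictly catenary rings and essentially of finite type algebras. -/

set_option autoImplicit false
set_option linter.style.haveILetI false
set_option maxHeartbeats 1600000

universe u

open IsLocalRing CommAlgDim TensorProduct nonZeroDivisors EGA4

namespace FSC

attribute [local instance] MvPolynomial.algebraMvPolynomial

section Field

variable {A : Type u} [CommRing A] [IsLocalRing A] [IsNoetherianRing A]

/-- The formal fibres of a formally strictly catenary ring have no embedded primes, also after field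
extensions of finite type. -/
theorem minAss_tensor_field (hA : IsFormallyStrictlyCatenary A) (L : Type u) [Field L] [Algebra A L]
    [Algebra.EssFiniteType A L] : MinAss (L ⊗[A] Cpl A) := by
  classical
  let p := RingHom.ker (algebraMap A L)
  haveI : p.IsPrime := RingHom.ker_isPrime _
  letI : Algebra (A ⧸ p) L := (Ideal.Quotient.lift p (algebraMap A L) fun a ha => ha).toAlgebra
  haveI : IsScalarTower A (A ⧸ p) L := IsScalarTower.of_algebraMap_eq fun a => rfl
  have hinj : Function.Injective (algebraMap (A ⧸ p) L) :=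
    RingHom.lift_injective_of_ker_le_ideal p (fun a ha => ha) le_rfl
  haveI : FaithfulSMul (A ⧸ p) L := (faithfulSMul_iff_algebraMap_injective _ _).2 hinj
  haveI : Algebra.EssFiniteType (A ⧸ p) L := Algebra.EssFiniteType.of_comp A (A ⧸ p) L
  let s : Set L := ↑(Algebra.EssFiniteType.finset (A ⧸ p) L)
  haveI halg : Algebra.IsAlgebraic (Algebra.adjoin (A ⧸ p) s) L := by
    let S0 := Algebra.EssFiniteType.subalgebra (A ⧸ p) L
    show Algebra.IsAlgebraic S0 L
    haveI := Algebra.EssFiniteType.isLocalization (A ⧸ p) L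
    exact ⟨fun l => by
      obtain ⟨⟨a, m⟩, rfl⟩ : ∃ am : S0 × Algebra.EssFiniteType.submonoid (A ⧸ p) L,
          IsLocalization.mk' L am.1 am.2 = l :=
        let ⟨a, m, h⟩ := IsLocalization.exists_mk'_eq (Algebra.EssFiniteType.submonoid (A ⧸ p) L) l
        ⟨(a, m), h⟩
      refine ⟨Polynomial.C (m : S0) * Polynomial.X - Polynomial.C a, fun h0 => ?_, ?_⟩
      · have h1 := congrArg (fun q : Polynomial S0 => q.coeff 1) h0
        rw [Polynomial.coeff_sub, Polynomial.coeff_C_mul, Polynomial.coeff_X_one, mul_one, Polynomial.coeff_C_ne_zero one_ne_zero, sub_zero, Polynomial.coeff_zero] at h1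
        have h2 := IsLocalization.map_units L m
        rw [h1, map_zero, isUnit_zero_iff] at h2
        exact zero_ne_one h2
      · rw [map_sub, map_mul, Polynomial.aeval_C, Polynomial.aeval_X, Polynomial.aeval_C, mul_comm, sub_eq_zero]
        exact IsLocalization.mk'_spec L a m⟩
  obtain ⟨t, hts, ht⟩ := exists_isTranscendenceBasis_subset (R := A ⧸ p) s
  haveI : Fintype t := ((Finset.finite_toSet _).subset hts).fintype
  let x : Fin (Fintype.card t) → L := fun i => ((Fintype.equivFin t).symm i : L)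
  have hx : IsTranscendenceBasis (A ⧸ p) x := ht.comp_equiv (Fintype.equivFin t).symm
  let P1 := MvPolynomial (Fin (Fintype.card t)) (A ⧸ p)
  letI : Algebra P1 L := (MvPolynomial.aeval x).toRingHom.toAlgebra
  haveI : IsScalarTower (A ⧸ p) P1 L := IsScalarTower.of_algebraMap_eq fun a =>
    ((MvPolynomial.aeval x).commutes a).symm
  haveI : IsScalarTower A P1 L := IsScalarTower.of_algebraMap_eq fun a => by
    rw [IsScalarTower.algebraMap_apply A (A ⧸ p) L, IsScalarTower.algebraMap_apply (A ⧸ p) P1 L,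
      ← IsScalarTower.algebraMap_apply A (A ⧸ p) P1]
  let F := FractionRing P1
  have hg : Function.Injective (algebraMap P1 L) := algebraicIndependent_iff_injective_aeval.1 hx.1
  letI : Algebra F L := (IsFractionRing.lift (K := F) hg).toAlgebra
  haveI : IsScalarTower P1 F L := IsScalarTower.of_algebraMap_eq fun a =>
    (IsFractionRing.lift_algebraMap hg a).symm
  haveI : IsScalarTower A F L := IsScalarTower.of_algebraMap_eq fun a => by
    rw [IsScalarTower.algebraMap_apply A P1 F, ← IsScalarTower.algebraMap_apply P1 F L,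
      ← IsScalarTower.algebraMap_apply A P1 L]
  haveI : Algebra.EssFiniteType F L := Algebra.EssFiniteType.of_comp A F L
  haveI : Algebra.IsAlgebraic F L := by
    haveI := hx.isAlgebraic
    refine ⟨fun l => ?_⟩
    obtain ⟨q, hq0, hq⟩ := Algebra.IsAlgebraic.isAlgebraic (R := Algebra.adjoin (A ⧸ p) (Set.range x)) l
    let g : Algebra.adjoin (A ⧸ p) (Set.range x) →+* F :=
      (algebraMap P1 F).comp hx.1.aevalEquiv.symm.toRingEquiv.toRingHom
    have hgi : Function.Injective g :=
      (IsFractionRing.injective P1 F).comp hx.1.aevalEquiv.symm.injective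
    have hgc : (algebraMap F L).comp g = algebraMap (Algebra.adjoin (A ⧸ p) (Set.range x)) L :=
      RingHom.ext fun z => by
        show algebraMap F L (algebraMap P1 F (hx.1.aevalEquiv.symm z)) = _
        rw [← IsScalarTower.algebraMap_apply P1 F L]
        exact hx.1.algebraMap_aevalEquiv _ |>.symm.trans (congrArg _ (hx.1.aevalEquiv.apply_symm_apply z))
    refine ⟨q.map g, (Polynomial.map_ne_zero_iff hgi).2 hq0, ?_⟩
    rw [Polynomial.aeval_def, Polynomial.eval₂_map, hgc]
    exact hq
  haveI : Module.Finite F L := Algebra.finite_of_essFiniteType_of_isAlgebraic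
  haveI := CatLib.isNoetherianRing_cpl A
  -- the polynomial ring over the completed quotient
  haveI : IsLocalRing (A ⧸ p) := IsLocalRing.of_surjective' _ Ideal.Quotient.mk_surjective
  haveI := CatLib.isNoetherianRing_cpl (A ⧸ p)
  obtain ⟨E0⟩ := CatLib.exists_cpl_quotient_equiv (A := A) (A ⧸ p) Ideal.Quotient.mk_surjective
  rw [Ideal.Quotient.algebraMap_eq, Ideal.mk_ker] at E0
  have h0 : MinAss (Cpl A ⧸ p.map (algebraMap A (Cpl A))) :=
    minAss_of_ringEquiv E0 (minAss_of_strictlyEquidim (hA p))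
  let e1 : (Cpl A ⧸ p.map (algebraMap A (Cpl A))) ≃+* Cpl A ⊗[A] (A ⧸ p) :=
    (Algebra.TensorProduct.quotIdealMapEquivTensorQuot (Cpl A) p).toRingEquiv
  haveI : IsNoetherianRing (Cpl A ⊗[A] (A ⧸ p)) := isNoetherianRing_of_ringEquiv _ e1
  have h1 : MinAss (MvPolynomial (Fin (Fintype.card t)) (Cpl A ⊗[A] (A ⧸ p))) :=
    minAss_mvPolynomial _ _ (minAss_of_ringEquiv e1 h0)
  let e2 : MvPolynomial (Fin (Fintype.card t)) (Cpl A ⊗[A] (A ⧸ p)) ≃+* P1 ⊗[A] Cpl A :=
    (MvPolynomial.rTensorAlgEquiv.symm.toRingEquiv).trans (Algebra.TensorProduct.comm A (Cpl A) P1).toRingEquiv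
  haveI : IsNoetherianRing (P1 ⊗[A] Cpl A) := isNoetherianRing_of_ringEquiv _ e2
  have h2 : MinAss (P1 ⊗[A] Cpl A) := minAss_of_ringEquiv e2 h1
  -- the generic fibre
  letI : Algebra (P1 ⊗[A] Cpl A) (F ⊗[P1] (P1 ⊗[A] Cpl A)) := Algebra.TensorProduct.rightAlgebra
  haveI : IsNoetherianRing (F ⊗[P1] (P1 ⊗[A] Cpl A)) :=
    IsLocalization.isNoetherianRing (Algebra.algebraMapSubmonoid (P1 ⊗[A] Cpl A) P1⁰) (F ⊗[P1] (P1 ⊗[A] Cpl A)) inferInstance
  have h3 : MinAss (F ⊗[P1] (P1 ⊗[A] Cpl A)) :=
    minAss_of_isLocalization (Algebra.algebraMapSubmonoid (P1 ⊗[A] Cpl A) P1⁰) h2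
  let e3 : F ⊗[P1] (P1 ⊗[A] Cpl A) ≃+* F ⊗[A] Cpl A :=
    (Algebra.TensorProduct.cancelBaseChange A P1 P1 F (Cpl A)).toRingEquiv
  haveI : IsNoetherianRing (F ⊗[A] Cpl A) := isNoetherianRing_of_ringEquiv (F ⊗[P1] (P1 ⊗[A] Cpl A)) e3
  have h4 : MinAss (F ⊗[A] Cpl A) := minAss_of_ringEquiv e3 h3
  -- the finite extension
  haveI : IsNoetherianRing ((F ⊗[A] Cpl A) ⊗[F] L) :=
    isNoetherian_of_tower (F ⊗[A] Cpl A)
      (isNoetherian_of_isNoetherianRing_of_finite (F ⊗[A] Cpl A) ((F ⊗[A] Cpl A) ⊗[F] L))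
  have h5 : MinAss ((F ⊗[A] Cpl A) ⊗[F] L) := minAss_of_finite_free (F ⊗[A] Cpl A) _ h4
  let e4 : (F ⊗[A] Cpl A) ⊗[F] L ≃+* L ⊗[A] Cpl A :=
    (Algebra.TensorProduct.comm F (F ⊗[A] Cpl A) L).toRingEquiv.trans
      (Algebra.TensorProduct.cancelBaseChange A F F L (Cpl A)).toRingEquiv
  haveI : IsNoetherianRing (L ⊗[A] Cpl A) := isNoetherianRing_of_ringEquiv ((F ⊗[A] Cpl A) ⊗[F] L) e4
  exact minAss_of_ringEquiv e4 h5

theorem minAss_tensor_domain (hA : IsFormallyStrictlyCatenary A) (D : Type u) [CommRing D] [IsDomain D]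
    [Algebra A D] [Algebra.FiniteType A D] [IsNoetherianRing (D ⊗[A] Cpl A)] : MinAss (D ⊗[A] Cpl A) := by
  haveI := CatLib.isNoetherianRing_cpl A
  let L := FractionRing D
  haveI : Algebra.EssFiniteType D L := Algebra.EssFiniteType.of_isLocalization L D⁰
  haveI : Algebra.EssFiniteType A L := Algebra.EssFiniteType.comp A D L
  letI : Algebra (D ⊗[A] Cpl A) (L ⊗[D] (D ⊗[A] Cpl A)) := Algebra.TensorProduct.rightAlgebra
  haveI : IsNoetherianRing (L ⊗[D] (D ⊗[A] Cpl A)) :=
    IsLocalization.isNoetherianRing (Algebra.algebraMapSubmonoid (D ⊗[A] Cpl A) D⁰) (L ⊗[D] (D ⊗[A] Cpl A)) inferInstance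
  let e : L ⊗[D] (D ⊗[A] Cpl A) ≃+* L ⊗[A] Cpl A :=
    (Algebra.TensorProduct.cancelBaseChange A D D L (Cpl A)).toRingEquiv
  haveI : IsNoetherianRing (L ⊗[A] Cpl A) := isNoetherianRing_of_ringEquiv (L ⊗[D] (D ⊗[A] Cpl A)) e
  have h : MinAss (L ⊗[D] (D ⊗[A] Cpl A)) := minAss_of_ringEquiv e.symm (minAss_tensor_field hA L)
  refine minAss_of_localization_regular (L ⊗[D] (D ⊗[A] Cpl A))
    (Algebra.algebraMapSubmonoid (D ⊗[A] Cpl A) D⁰) ?_ h
  rintro _ ⟨d, hd, rfl⟩
  have hinj : Function.Injective ((LinearMap.mulLeft A d).rTensor (Cpl A)) :=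
    Module.Flat.rTensor_preserves_injective_linearMap _
      (fun a b hab => mul_left_cancel₀ (nonZeroDivisors.ne_zero hd) hab)
  have he : ∀ z : D ⊗[A] Cpl A, (LinearMap.mulLeft A d).rTensor (Cpl A) z = algebraMap D _ d * z := fun z => by
    induction z using TensorProduct.induction_on with
    | zero => simp
    | add z w hz hw => rw [map_add, hz, hw, mul_add]
    | tmul a b => simp [Algebra.TensorProduct.algebraMap_apply]
  intro z w hzw
  exact hinj (by rw [he, he]; exact hzw)

end Field

/-- A domain with a flat local extension that is an equidimensional quotient of a Cohen–Macaulay ring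
without embedded primes has a finite hull. -/
theorem hullFinite_of_flat {D D' : Type u} [CommRing D] [IsDomain D] [IsLocalRing D] [IsNoetherianRing D]
    [CommRing D'] [IsLocalRing D'] [IsNoetherianRing D'] [Algebra D D'] [Module.Flat D D']
    [IsLocalHom (algebraMap D D')] (hE : IsEquidim D') (hcat : CAlg.IsCatenary D') (hmin : MinAss D')
    {T : Type u} [CommRing T] [IsLocalRing T] [IsNoetherianRing T] (hT : IsCM T) (ψ : T →+* D')
    (hψ' : Function.Surjective ψ) : HeightOneHullFinite D := by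
  haveI : Module.FaithfullyFlat D D' := Module.FaithfullyFlat.of_flat_of_isLocalHom
  refine (HullCrit.hullFinite_iff D).2 ?_
  refine HullCrit.finite_hull (B := D') _ (fun a b h => ?_) (fun p' hp' _ => ?_) (fun p' hp' Q2 hQ2 hle h1 => ?_)
  · replace h := Ideal.mem_span_singleton.2 h
    apply Ideal.mem_span_singleton.1
    rw [← Ideal.comap_map_eq_self_of_faithfullyFlat (B := D') (Ideal.span {a}), Ideal.mem_comap, Ideal.map_span,
      Set.image_singleton]
    exact h
  · have hq : RingHom.ker ((Ideal.Quotient.mk p').comp ψ) = p'.comap ψ := by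
      rw [← RingHom.comap_ker, Ideal.mk_ker]
    exact HironakaAux.hullFinite_of_ringEquiv
      ((Ideal.quotEquivOfEq hq).symm.trans
        (RingHom.quotientKerEquivOfSurjective (f := (Ideal.Quotient.mk p').comp ψ)
          (Ideal.Quotient.mk_surjective.comp hψ'))).symm (HullCM.hullFinite_of_cm hT (p'.comap ψ))
  · haveI := hQ2
    haveI := hp'.isPrime
    haveI := Ideal.Quotient.nontrivial_iff.2 hp'.isPrime.ne_top
    haveI : (Q2.map (Ideal.Quotient.mk p')).IsPrime :=
      Ideal.map_isPrime_of_surjective Ideal.Quotient.mk_surjective (by rw [Ideal.mk_ker]; exact hle)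
    have e2 := CatLib.ringKrullDim_quotient_add_height_of_domain (CatLib.isCatenary_quotient p' hcat)
      (Q2.map (Ideal.Quotient.mk p'))
    rw [CatLib.ringKrullDim_quotient_quotient_map hle, hE p' (hmin p' hp'), h1] at e2
    have e3 := CatLib.ringKrullDim_quotient_add_height_of_equidim hE hcat Q2
    haveI := Ideal.Quotient.nontrivial_iff.2 hQ2.ne_top
    haveI : IsLocalRing (D' ⧸ Q2) := IsLocalRing.of_surjective' _ Ideal.Quotient.mk_surjective
    obtain ⟨d, hd⟩ := exists_ringKrullDim_eq (R := D')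
    obtain ⟨k, hk⟩ := exists_ringKrullDim_eq (R := D' ⧸ Q2)
    obtain ⟨hQh, hhQ⟩ := ENat.ne_top_iff_exists.1 (Ideal.height_ne_top hQ2.ne_top)
    rw [hd, hk] at e2
    rw [hd, hk, ← hhQ] at e3
    have n1 : k + 1 = d := by exact_mod_cast e2
    have n2 : k + hQh = d := by exact_mod_cast e3
    have h4 : (Q2.comap (algebraMap D D')).height ≤ 1 := by
      haveI : Q2.LiesOver (Q2.comap (algebraMap D D')) := ⟨rfl⟩
      have h5 := Ideal.height_eq_height_add_of_liesOver_of_hasGoingDown (Q2.comap (algebraMap D D')) Q2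
      rw [← hhQ, show hQh = 1 by omega, Nat.cast_one] at h5
      rw [h5]
      exact le_self_add
    exact HullCrit.height_one_or_bot D fun h2 => absurd (h2.trans h4) (by decide)


/-- Local domains essentially of finite type over a formally strictly catenary ring have finite hulls. -/
theorem hullFinite_of_essFiniteType {A : Type u} [CommRing A] [IsLocalRing A] [IsNoetherianRing A]
    (hA : IsFormallyStrictlyCatenary A) (B : Type u) [CommRing B] [IsDomain B] [IsNoetherianRing B]
    [IsLocalRing B] [Algebra A B] [Algebra.EssFiniteType A B] : HeightOneHullFinite B := by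
  let S0 := Algebra.EssFiniteType.subalgebra A B
  obtain ⟨n, g, hg⟩ := Algebra.FiniteType.iff_quotient_mvPolynomial''.1 (inferInstance : Algebra.FiniteType A S0)
  let R := MvPolynomial (Fin n) A
  let q0 : Ideal S0 := (maximalIdeal B).comap (algebraMap S0 B)
  haveI : IsLocalization.AtPrime B q0 := by
    have he : Algebra.EssFiniteType.submonoid A B = q0.primeCompl := by
      ext x
      show IsUnit (algebraMap S0 B x) ↔ ¬ algebraMap S0 B x ∈ maximalIdeal B
      exact notMem_maximalIdeal.symm
    show IsLocalization q0.primeCompl B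
    rw [← he]
    exact Algebra.EssFiniteType.isLocalization A B
  let q : Ideal R := q0.comap g.toRingHom
  obtain ⟨hπ0, -⟩ := CatLib.localRingHom_surjective g.toRingHom hg q0
  let eB := (IsLocalization.algEquiv q0.primeCompl (Localization.AtPrime q0) B).toRingEquiv
  let π : Localization.AtPrime q →+* B := eB.toRingHom.comp (Localization.localRingHom q q0 g.toRingHom rfl)
  have hπ : Function.Surjective π := eB.surjective.comp hπ0
  let J : Ideal (Localization.AtPrime q) := RingHom.ker π
  haveI : J.IsPrime := RingHom.ker_isPrime π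
  let Rq := Localization.AtPrime q
  haveI : IsNoetherianRing Rq := IsLocalization.isNoetherianRing q.primeCompl _ inferInstance
  let Â := AdicCompletion (maximalIdeal A) A
  let R' := MvPolynomial (Fin n) Â
  haveI : IsNoetherianRing Â := CatLib.isNoetherianRing_cpl A
  haveI : Module.FaithfullyFlat A Â := Module.FaithfullyFlat.of_flat_of_isLocalHom
  haveI : Module.FaithfullyFlat R R' :=
    Module.FaithfullyFlat.of_linearEquiv (M := R ⊗[A] Â) R (Algebra.IsPushout.equiv A R Â R').symm.toLinearEquiv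
  obtain ⟨⟨Q, hQ⟩, hQq⟩ := PrimeSpectrum.comap_surjective_of_faithfullyFlat (B := R') (⟨q, inferInstance⟩ : PrimeSpectrum R)
  replace hQq : Q.comap (algebraMap R R') = q := congrArg PrimeSpectrum.asIdeal hQq
  obtain ⟨C, _, _, _, f, hC, hf⟩ := CatLib.exists_cm_surjective Â
  let RQ := Localization.AtPrime Q
  haveI : IsNoetherianRing RQ := IsLocalization.isNoetherianRing Q.primeCompl _ inferInstance
  letI : Algebra Rq RQ := (Localization.localRingHom q Q (algebraMap R R') hQq.symm).toAlgebra
  haveI : IsScalarTower R Rq RQ :=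
    IsScalarTower.of_algebraMap_eq fun x => by
      rw [RingHom.algebraMap_toAlgebra, Localization.localRingHom_to_map, IsScalarTower.algebraMap_apply R R']
  haveI : IsScalarTower A Rq RQ := IsScalarTower.of_algebraMap_eq fun x => by
    rw [IsScalarTower.algebraMap_apply A R Rq, ← IsScalarTower.algebraMap_apply R Rq RQ,
      ← IsScalarTower.algebraMap_apply A R RQ]
  haveI : IsLocalHom (algebraMap Rq RQ) := Localization.isLocalHom_localRingHom q Q _ _
  haveI : Module.Flat R RQ := Module.Flat.trans R R' _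
  haveI : Module.Flat Rq RQ := (Module.flat_iff_of_isLocalization Rq q.primeCompl _).2 inferInstance
  have hmQ : (maximalIdeal Rq).map (algebraMap Rq RQ) ≤ maximalIdeal RQ :=
    ((local_hom_TFAE (algebraMap Rq RQ)).out 0 2).1 ‹_›
  let eJ : (Rq ⧸ J) ≃+* B := RingHom.quotientKerEquivOfSurjective hπ
  haveI : IsLocalRing (Rq ⧸ J) := IsLocalRing.of_surjective' _ Ideal.Quotient.mk_surjective
  -- equidimensionality
  let p := J.comap (algebraMap A Rq)
  have hpQ : p.map (algebraMap A R') ≤ Q := by
    rw [Ideal.map_le_iff_le_comap]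
    intro a ha
    have h1 : algebraMap A Rq a ∈ maximalIdeal Rq := le_maximalIdeal (Ideal.IsPrime.ne_top ‹J.IsPrime›) ha
    rw [IsScalarTower.algebraMap_apply A R Rq, IsLocalization.AtPrime.to_map_mem_maximal_iff Rq q] at h1
    rw [← hQq, Ideal.mem_comap, ← IsScalarTower.algebraMap_apply A R R'] at h1
    exact h1
  obtain ⟨heq0, hcat0⟩ := CatLib.equidim_catenary_polynomial_quotient hC f hf n p
    (isFormallyCatenary_of_strict hA p) Q hpQ
  have hpQ' : (p.map (algebraMap A Rq)).map (algebraMap Rq RQ) = p.map (algebraMap A RQ) := by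
    rw [Ideal.map_map, ← IsScalarTower.algebraMap_eq]
  obtain ⟨hE, -⟩ := CatLib.quotient_props_of_le (A := Rq) (B := RQ) (Ideal.map_comap_le : p.map (algebraMap A Rq) ≤ J)
    (CatLib.isEquidim_of_ringEquiv (Ideal.quotEquivOfEq hpQ').symm heq0)
    (CatLib.isCatenary_of_ringEquiv (Ideal.quotEquivOfEq hpQ').symm hcat0)
  let J' := J.map (algebraMap Rq RQ)
  haveI := Ideal.Quotient.nontrivial_iff.2
    (ne_top_of_le_ne_top (maximalIdeal.isMaximal RQ).ne_top
      ((Ideal.map_mono (le_maximalIdeal (Ideal.IsPrime.ne_top ‹J.IsPrime›))).trans hmQ) : J' ≠ ⊤)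
  let D := Rq ⧸ J
  let D' := RQ ⧸ J'
  haveI : IsLocalRing D' := IsLocalRing.of_surjective' _ Ideal.Quotient.mk_surjective
  haveI : Module.Flat D D' := CatLib.flat_quotient J
  haveI : IsLocalHom (algebraMap D D') := CatLib.isLocalHom_quotient J
  -- a quotient of a Cohen–Macaulay ring
  let φ : MvPolynomial (Fin n) C →+* R' := MvPolynomial.map f
  obtain ⟨hψ, -⟩ := CatLib.localRingHom_surjective φ (MvPolynomial.map_surjective f hf) Q
  let T := Localization.AtPrime (Q.comap φ)
  haveI : IsNoetherianRing T := IsLocalization.isNoetherianRing (Q.comap φ).primeCompl _ inferInstance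
  have hT : IsCM T := CatLib.isCMRing_mvPolynomial (CatLib.isCMRing_of_isCM hC) n _
  let ψ : T →+* D' := (Ideal.Quotient.mk J').comp (Localization.localRingHom (Q.comap φ) Q φ rfl)
  have hψ' : Function.Surjective ψ := Ideal.Quotient.mk_surjective.comp hψ
  have hcat : CAlg.IsCatenary D' := CatLib.isCatenary_of_surjective ψ hψ' (CatLib.isCatenary_of_isCM hT)
  -- no embedded primes
  let P0 := J.comap (algebraMap R Rq)
  haveI : Algebra.FiniteType A (R ⧸ P0) := inferInstance
  let e1 : (R' ⧸ P0.map (algebraMap R R')) ≃+* (R ⧸ P0) ⊗[A] Â :=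
    ((Algebra.TensorProduct.quotIdealMapEquivTensorQuot R' P0).toRingEquiv.trans
      (Algebra.TensorProduct.comm R R' (R ⧸ P0)).toRingEquiv).trans
      ((Algebra.TensorProduct.congr (AlgEquiv.refl : (R ⧸ P0) ≃ₐ[R] (R ⧸ P0))
        (Algebra.IsPushout.equiv A R Â R').symm).toRingEquiv.trans
        (Algebra.TensorProduct.cancelBaseChange A R R (R ⧸ P0) Â).toRingEquiv)
  haveI : IsNoetherianRing ((R ⧸ P0) ⊗[A] Cpl A) := isNoetherianRing_of_ringEquiv _ e1
  have h6 : MinAss (R' ⧸ P0.map (algebraMap R R')) :=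
    minAss_of_ringEquiv e1.symm (minAss_tensor_domain hA (R ⧸ P0))
  have hJ' : (P0.map (algebraMap R R')).map (algebraMap R' RQ) = J' := by
    rw [Ideal.map_map, ← IsScalarTower.algebraMap_eq, IsScalarTower.algebraMap_eq R Rq RQ, ← Ideal.map_map,
      show P0.map (algebraMap R Rq) = J from IsLocalization.map_comap q.primeCompl Rq J]
  have h7 : MinAss D' := minAss_of_ringEquiv (R := RQ ⧸ (P0.map (algebraMap R R')).map (algebraMap R' RQ)) (S := D') (Ideal.quotEquivOfEq hJ')
    (minAss_of_isLocalization (Algebra.algebraMapSubmonoid (R' ⧸ P0.map (algebraMap R R')) Q.primeCompl) h6)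
  -- the criterion
  exact HironakaAux.hullFinite_of_ringEquiv eJ.symm (hullFinite_of_flat (D := D) (D' := D') hE hcat h7 hT ψ hψ')

theorem isFormallyStrictlyCatenary_of_essFiniteType {A : Type u} [CommRing A] [IsLocalRing A] [IsNoetherianRing A]
    (hA : IsFormallyStrictlyCatenary A) (B : Type u) [CommRing B] [IsNoetherianRing B] [IsLocalRing B] [Algebra A B]
    [Algebra.EssFiniteType A B] : IsFormallyStrictlyCatenary B := by
  refine iff_main.2 ⟨Groth.Agent.S2636.result B fun p hp => ?_, fun p hp => ?_⟩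
  · haveI := hp
    haveI : IsLocalRing (B ⧸ p) := IsLocalRing.of_surjective' _ Ideal.Quotient.mk_surjective
    haveI : Algebra.EssFiniteType A (B ⧸ p) := Algebra.EssFiniteType.comp A B (B ⧸ p)
    exact CatLib.isFormallyEquidim_of_essFiniteType (isFormallyCatenary_of_strict hA) (B ⧸ p)
      (CatLib.isEquidim_of_isDomain _)
  · haveI := hp
    haveI : IsLocalRing (B ⧸ p) := IsLocalRing.of_surjective' _ Ideal.Quotient.mk_surjective
    haveI : Algebra.EssFiniteType A (B ⧸ p) := Algebra.EssFiniteType.comp A B (B ⧸ p)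
    exact hullFinite_of_essFiniteType hA (B ⧸ p)

end FSC
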