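import Groth.Agent.FSCLib.Main
import Groth.Agent.EquidimLib.AffineChart

/-!
# Rings without embedded primes

Localizations, polynomial rings, finite free extensions, and descent from a localization at regular elements.
-/

set_option autoImplicit false
set_option linter.style.haveILetI false
set_option maxHeartbeats 1000000

universe u

open TensorProduct nonZeroDivisors

namespace FSC

/-- Every associated prime is minimal. -/
def MinAss (R : Type u) [CommRing R] : Prop := ∀ P ∈ associatedPrimes R R, P ∈ minimalPrimes R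

theorem minAss_of_ringEquiv {R S : Type u} [CommRing R] [CommRing S] [IsNoetherianRing R] [IsNoetherianRing S]
    (e : R ≃+* S) (h : MinAss R) : MinAss S := by
  letI : Algebra R S := e.toRingHom.toAlgebra
  intro Q hQ
  have hQ' := CatLib.comap_mem_associatedPrimes (R := R) (S := S) e.surjective hQ
  rw [← LinearEquiv.AssociatedPrimes.eq (LinearEquiv.ofBijective (Algebra.linearMap R S) e.bijective)] at hQ'
  have h1 := h _ hQ'
  refine ⟨⟨hQ.isPrime, bot_le⟩, fun P hP hle => ?_⟩
  haveI := hP.1
  have h2 : Q.comap (algebraMap R S) ≤ P.comap (algebraMap R S) :=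
    h1.2 ⟨Ideal.IsPrime.comap _, bot_le⟩ (Ideal.comap_mono hle)
  intro x hx
  obtain ⟨r, rfl⟩ : ∃ r, algebraMap R S r = x := e.surjective x
  exact h2 hx

theorem minAss_of_isLocalization {R S : Type u} [CommRing R] [CommRing S] [Algebra R S] [IsNoetherianRing R]
    (M : Submonoid R) [IsLocalization M S] (h : MinAss R) : MinAss S := by
  intro Q hQ
  rw [← Module.associatedPrimes.preimage_comap_associatedPrimes_eq_associatedPrimes_of_isLocalizedModule M S
    (Algebra.linearMap R S)] at hQ
  have h1 := h _ hQ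
  have hne : Q ≠ ⊤ := fun h0 => h1.1.1.ne_top (by rw [h0, Ideal.comap_top])
  have hQp : Q.IsPrime := by
    refine (IsLocalization.isPrime_iff_isPrime_disjoint M S Q).2 ⟨h1.1.1, Set.disjoint_left.2 fun m hm hm' => ?_⟩
    exact hne (Ideal.eq_top_of_isUnit_mem _ hm' (IsLocalization.map_units S ⟨m, hm⟩))
  refine ⟨⟨hQp, bot_le⟩, fun P hP hle => ?_⟩
  haveI := hP.1
  have h2 : Q.comap (algebraMap R S) ≤ P.comap (algebraMap R S) :=
    h1.2 ⟨Ideal.IsPrime.comap _, bot_le⟩ (Ideal.comap_mono hle)
  calc Q = (Q.comap (algebraMap R S)).map (algebraMap R S) := (IsLocalization.map_comap M S Q).symm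
    _ ≤ (P.comap (algebraMap R S)).map (algebraMap R S) := Ideal.map_mono h2
    _ ≤ P := Ideal.map_comap_le

/-- Descent from a localization at regular elements. -/
theorem minAss_of_localization_regular {R : Type u} (S : Type u) [CommRing R] [CommRing S] [Algebra R S]
    [IsNoetherianRing R] (M : Submonoid R) [IsLocalization M S] (hM : ∀ m ∈ M, IsSMulRegular R m)
    (h : MinAss S) : MinAss R := by
  intro P hP
  haveI := hP.isPrime
  have hdis : Disjoint (M : Set R) P := Set.disjoint_left.2 fun m hm hm' => by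
    have h1 : m ∈ ⋃ p ∈ associatedPrimes R R, (p : Set R) := Set.mem_biUnion hP hm'
    rw [biUnion_associatedPrimes_eq_compl_regular] at h1
    exact h1 (hM m hm)
  have hu : (P.map (algebraMap R S)).comap (algebraMap R S) = P := by
    have := IsLocalization.under_map_of_isPrime_disjoint M S (inferInstance : P.IsPrime) hdis
    rwa [Ideal.under_def] at this
  have h1 : P.map (algebraMap R S) ∈ associatedPrimes S S := by
    rw [← Module.associatedPrimes.preimage_comap_associatedPrimes_eq_associatedPrimes_of_isLocalizedModule M S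
      (Algebra.linearMap R S), Set.mem_preimage, hu]
    exact hP
  have h2 := h _ h1
  refine ⟨⟨inferInstance, bot_le⟩, fun P' hP' hle => ?_⟩
  haveI := hP'.1
  have hdis' : Disjoint (M : Set R) P' := hdis.mono_right hle
  have h3 : P.map (algebraMap R S) ≤ P'.map (algebraMap R S) :=
    h2.2 ⟨IsLocalization.isPrime_of_isPrime_disjoint M S P' inferInstance hdis', bot_le⟩ (Ideal.map_mono hle)
  have hu' : (P'.map (algebraMap R S)).comap (algebraMap R S) = P' := by
    have := IsLocalization.under_map_of_isPrime_disjoint M S (inferInstance : P'.IsPrime) hdis'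
    rwa [Ideal.under_def] at this
  have h4 := Ideal.comap_mono (f := algebraMap R S) h3
  rwa [hu, hu'] at h4

theorem minAss_of_finite_free (R S : Type u) [CommRing R] [IsNoetherianRing R] [CommRing S] [Algebra R S]
    [Module.Free R S] [Module.Finite R S] (h : MinAss R) : MinAss S := by
  intro Q hQ
  haveI := hQ.isPrime
  haveI : IsNoetherianRing S := isNoetherian_of_tower R (isNoetherian_of_isNoetherianRing_of_finite R S)
  obtain ⟨-, x, hx⟩ := isAssociatedPrime_iff.1 hQ
  have h1 : Q.comap (algebraMap R S) ∈ associatedPrimes R S := by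
    refine isAssociatedPrime_iff.2 ⟨inferInstance, x, ?_⟩
    ext r
    rw [Ideal.mem_comap, hx, Submodule.mem_colon_singleton, Submodule.mem_bot, Submodule.mem_colon_singleton,
      Submodule.mem_bot, algebraMap_smul]
  classical
  let b := (Module.Free.chooseBasis R S).reindex (Fintype.equivFin _)
  rw [LinearEquiv.AssociatedPrimes.eq b.equivFun] at h1
  have h2 := h _ (mem_ass_pi h1)
  refine ⟨⟨inferInstance, bot_le⟩, fun P hP hle => ?_⟩
  haveI := hP.1
  by_contra hne
  obtain ⟨y, hyQ, hyP⟩ := SetLike.not_le_iff_exists.1 hne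
  have h3 := Ideal.comap_lt_comap_of_integral_mem_sdiff (R := R) hle ⟨hyQ, hyP⟩
    (Algebra.IsIntegral.isIntegral y)
  exact absurd (h2.2 ⟨Ideal.IsPrime.comap _, bot_le⟩ h3.le) h3.not_ge

theorem minAss_mvPolynomial (R : Type u) [CommRing R] [IsNoetherianRing R] (n : ℕ) (h : MinAss R) :
    MinAss (MvPolynomial (Fin n) R) := by
  intro Q hQ
  have hmin : ∀ P ∈ associatedPrimes R R, ∀ P' ∈ associatedPrimes R R, P ≤ P' → P = P' := fun P hP P' hP' hle =>
    le_antisymm hle ((h P' hP').2 ⟨hP.isPrime, bot_le⟩ hle)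
  refine ass_tensor (MvPolynomial (Fin n) R) (associatedPrimes R R) hmin
    (fun Q => Q ∈ minimalPrimes (MvPolynomial (Fin n) R)) (fun P hP Q' hQ' => ?_) R subset_rfl Q
    (by rwa [LinearEquiv.AssociatedPrimes.eq (Algebra.TensorProduct.rid R (MvPolynomial (Fin n) R)
      (MvPolynomial (Fin n) R)).toLinearEquiv])
  haveI := hP.isPrime
  let PC := P.map (algebraMap R (MvPolynomial (Fin n) R))
  haveI : PC.IsPrime := EquidimLib.isPrime_map_C P n
  rw [← LinearEquiv.AssociatedPrimes.eq
    (Algebra.TensorProduct.quotIdealMapEquivTensorQuot (MvPolynomial (Fin n) R) P).toLinearEquiv] at hQ'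
  obtain ⟨hQp, z, hz⟩ := isAssociatedPrime_iff.1 hQ'
  have hz0 : z ≠ 0 := fun h0 => hQp.ne_top (Q'.eq_top_iff_one.2 (by
    rw [hz, Submodule.mem_colon_singleton, Submodule.mem_bot, h0, smul_zero]))
  have hQ'eq : Q' = PC := by
    ext r
    rw [hz, Submodule.mem_colon_singleton, Submodule.mem_bot, Algebra.smul_def, Ideal.Quotient.algebraMap_eq,
      mul_eq_zero, or_iff_left hz0, Ideal.Quotient.eq_zero_iff_mem]
  rw [hQ'eq]
  refine ⟨⟨inferInstance, bot_le⟩, fun P2 hP2 hle => ?_⟩
  haveI := hP2.1
  have h1 : P ≤ P2.comap (algebraMap R (MvPolynomial (Fin n) R)) :=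
    (h P hP).2 ⟨Ideal.IsPrime.comap _, bot_le⟩ (by
      intro x hx
      have h2 : algebraMap R (MvPolynomial (Fin n) R) x ∈ PC := hle hx
      rw [show PC = P.map (MvPolynomial.C : R →+* _) from rfl, MvPolynomial.mem_map_C_iff] at h2
      have h3 := h2 0
      rwa [show (MvPolynomial.coeff 0 (algebraMap R (MvPolynomial (Fin n) R) x)) = x from
        MvPolynomial.coeff_zero_C x] at h3)
  exact Ideal.map_le_iff_le_comap.2 h1

/-- Strictly equidimensional rings have no embedded primes. -/
theorem minAss_of_strictlyEquidim {R : Type u} [CommRing R] [IsLocalRing R] [IsNoetherianRing R]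
    (h : EGA4.IsStrictlyEquidim R) : MinAss R := by
  intro P hP
  haveI := hP.isPrime
  obtain ⟨P0, hP0, hle⟩ := Ideal.exists_minimalPrimes_le (I := (⊥ : Ideal R)) (J := P) bot_le
  rcases eq_or_lt_of_le hle with he | hlt
  · rw [← he]; exact hP0
  exfalso
  haveI := hP0.1.1
  obtain ⟨y, hyP, hy0⟩ := SetLike.exists_of_lt hlt
  have h1 := ringKrullDim_succ_le_of_surjective (Ideal.Quotient.factor hlt.le) (Ideal.Quotient.factor_surjective hlt.le)
    (r := Ideal.Quotient.mk P0 y) (mem_nonZeroDivisors_of_ne_zero fun h0 => hy0 (Ideal.Quotient.eq_zero_iff_mem.1 h0))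
    (Ideal.Quotient.eq_zero_iff_mem.2 hyP)
  rw [h P hP] at h1
  have h2 := h1.trans (ringKrullDim_quotient_le P0)
  obtain ⟨d, hd⟩ := CommAlgDim.exists_ringKrullDim_eq (R := R)
  rw [hd] at h2
  have : d + 1 ≤ d := by exact_mod_cast h2
  omega

end FSC
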